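import Groth.Agent.ModEtQCoh.WeakAssEtale
import Mathlib

/-!
# Weakly associated primes and extensions of the base field
-/

set_option autoImplicit false
set_option linter.style.haveILetI false
universe u

open TensorProduct Submodule

namespace Groth.WeakAssField

open Groth.Calg5

/-- Weakly associated primes of `B ⊗ M` contract to those of `M`. -/
def Contracts (A B : Type u) [CommRing A] [CommRing B] [Algebra A B] : Prop :=
  ∀ (M : Type u) [AddCommGroup M] [Module A M] (q : Ideal B), q.IsPrime →
    q ∈ FlatCA.weakAss B (B ⊗[A] M) → q.comap (algebraMap A B) ∈ FlatCA.weakAss A M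

section Residue

/-- Over a local ring a map of free modules which is injective on residue spaces stays injective after
any tensor. -/
theorem lTensor_injective_of_residue {R : Type u} [CommRing R] [IsLocalRing R] {P : Type u}
    [AddCommGroup P] [Module R P] [Module.Free R P] (φ : P →ₗ[R] P)
    (h : Function.Injective (φ.lTensor (IsLocalRing.ResidueField R))) (N : Type u) [AddCommGroup N]
    [Module R N] : Function.Injective (φ.lTensor N) := by
  classical
  let b := Module.Free.chooseBasis R P
  refine (injective_iff_map_eq_zero _).2 fun z hz => ?_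
  obtain ⟨c, rfl⟩ : ∃ c, (TensorProduct.equivFinsuppOfBasisRight b).symm c = z :=
    ⟨_, LinearEquiv.symm_apply_apply _ z⟩
  let S := c.support
  let emb : (S → R) →ₗ[R] P := Fintype.linearCombination R fun i : S => b i.1
  have hemb : ∀ w, emb w = ∑ i : S, w i • b i.1 := fun w => Fintype.linearCombination_apply R _ w
  let proj : P →ₗ[R] (S → R) := LinearMap.pi fun i => (Finsupp.lapply i.1) ∘ₗ b.repr.toLinearMap
  have hpe : proj ∘ₗ emb = LinearMap.id := by
    refine LinearMap.ext fun w => funext fun j => ?_
    simp only [proj, LinearMap.comp_apply, LinearMap.pi_apply, Finsupp.lapply_apply,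
      LinearEquiv.coe_coe, hemb, map_sum, map_smul, Module.Basis.repr_self, Finsupp.coe_finsetSum,
      Finset.sum_apply, Finsupp.coe_smul, Pi.smul_apply, Finsupp.single_apply, smul_eq_mul, LinearMap.id_coe,
      id_eq, mul_ite, mul_one, mul_zero]
    rw [Finset.sum_eq_single j (fun i _ hij => if_neg fun e => hij (Subtype.ext e))
      (fun hj => absurd (Finset.mem_univ j) hj), if_pos rfl]
  let T : Finset _ := Finset.univ.biUnion fun i : S => (b.repr (φ (b i.1))).support
  let emb' : (T → R) →ₗ[R] P := Fintype.linearCombination R fun i : T => b i.1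
  let proj' : P →ₗ[R] (T → R) := LinearMap.pi fun i => (Finsupp.lapply i.1) ∘ₗ b.repr.toLinearMap
  have hfac : emb' ∘ₗ (proj' ∘ₗ φ ∘ₗ emb) = φ ∘ₗ emb := by
    apply LinearMap.pi_ext'
    intro i
    apply LinearMap.ext_ring
    simp only [LinearMap.comp_apply, LinearMap.coe_single]
    have he : emb (Pi.single i 1) = b i.1 := by
      rw [hemb, Finset.sum_eq_single i (fun j _ hji => by rw [Pi.single_eq_of_ne hji, zero_smul])
        (fun hi => absurd (Finset.mem_univ i) hi), Pi.single_eq_same, one_smul]
    rw [he]
    show Fintype.linearCombination R _ (proj' (φ (b i.1))) = φ (b i.1)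
    rw [Fintype.linearCombination_apply]
    have hsub : (b.repr (φ (b i.1))).support ⊆ T := fun t ht =>
      Finset.mem_biUnion.2 ⟨i, Finset.mem_univ _, ht⟩
    conv_rhs => rw [← b.linearCombination_repr (φ (b i.1)), Finsupp.linearCombination_apply,
      Finsupp.sum_of_support_subset _ hsub (fun t r => r • b t) (fun t _ => zero_smul R _)]
    exact Finset.sum_coe_sort T fun t => b.repr (φ (b i.1)) t • b t
  set l : (S → R) →ₗ[R] (T → R) := proj' ∘ₗ φ ∘ₗ emb
  have hl : Function.Injective (l.lTensor (IsLocalRing.ResidueField R)) := by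
    refine Function.Injective.of_comp (f := emb'.lTensor (IsLocalRing.ResidueField R)) ?_
    rw [← LinearMap.coe_comp, ← LinearMap.lTensor_comp, hfac, LinearMap.lTensor_comp, LinearMap.coe_comp]
    refine h.comp (Function.LeftInverse.injective (g := proj.lTensor _) fun x => ?_)
    rw [← LinearMap.comp_apply, ← LinearMap.lTensor_comp, hpe, LinearMap.lTensor_id, LinearMap.id_apply]
  obtain ⟨l', hl'⟩ := (IsLocalRing.split_injective_iff_lTensor_residueField_injective l).2 hl
  set z := (TensorProduct.equivFinsuppOfBasisRight b).symm c with hzdef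
  have hz' : z = emb.lTensor N (∑ i : S, c i.1 ⊗ₜ[R] (Pi.single i 1 : S → R)) := by
    rw [hzdef, TensorProduct.equivFinsuppOfBasisRight_symm_apply, map_sum]
    refine ((Finset.sum_coe_sort c.support fun i => c i ⊗ₜ[R] b i).symm.trans (Finset.sum_congr rfl fun i _ => ?_))
    rw [LinearMap.lTensor_tmul, hemb, Finset.sum_eq_single i
      (fun j _ hji => by rw [Pi.single_eq_of_ne hji, zero_smul])
      (fun hi => absurd (Finset.mem_univ i) hi), Pi.single_eq_same, one_smul]
  generalize (∑ i : S, c i.1 ⊗ₜ[R] (Pi.single i 1 : S → R)) = w at hz'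
  have h1 : w = (l'.lTensor N) ((proj'.lTensor N) (φ.lTensor N z)) := by
    have hcomp : l' ∘ₗ proj' ∘ₗ φ ∘ₗ emb = LinearMap.id := hl'
    rw [hz', ← LinearMap.comp_apply, ← LinearMap.comp_apply, ← LinearMap.comp_apply,
      ← LinearMap.lTensor_comp, ← LinearMap.lTensor_comp, ← LinearMap.lTensor_comp, LinearMap.comp_assoc,
      LinearMap.comp_assoc, hcomp, LinearMap.lTensor_id, LinearMap.id_apply]
  rw [hz, map_zero, map_zero] at h1
  rw [hz', h1, map_zero]

/-- The version at a prime of a ring. -/
theorem lTensor_injective_of_residueField {A : Type u} [CommRing A] (p : Ideal A) [p.IsPrime] {P : Type u}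
    [AddCommGroup P] [Module A P] [Module.Free A P] (φ : P →ₗ[A] P)
    (h : Function.Injective (φ.lTensor p.ResidueField)) (N : Type u) [AddCommGroup N] [Module A N]
    [Module (Localization.AtPrime p) N] [IsScalarTower A (Localization.AtPrime p) N] :
    Function.Injective (φ.lTensor N) := by
  let R := Localization.AtPrime p
  have key : ∀ (N' : Type u) [AddCommGroup N'] [Module A N'] [Module R N'] [IsScalarTower A R N'],
      φ.lTensor N' ∘ AlgebraTensorModule.cancelBaseChange A R R N' P =
        AlgebraTensorModule.cancelBaseChange A R R N' P ∘ (φ.baseChange R).lTensor N' := by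
    intro N' _ _ _ _
    funext z
    simp only [Function.comp_apply]
    induction z using TensorProduct.induction_on with
    | zero => simp
    | add z w hz hw => simp only [map_add, hz, hw]
    | tmul n w =>
      induction w using TensorProduct.induction_on with
      | zero => simp
      | add w w' hw hw' => simp only [TensorProduct.tmul_add, map_add, hw, hw']
      | tmul r x => simp
  have h1 : Function.Injective ((φ.baseChange R).lTensor (IsLocalRing.ResidueField R)) := by
    refine Function.Injective.of_comp
      (f := AlgebraTensorModule.cancelBaseChange A R R (IsLocalRing.ResidueField R) P) ?_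
    rw [← key]
    exact h.comp (LinearEquiv.injective _)
  have h2 := lTensor_injective_of_residue (φ.baseChange R) h1 N
  refine Function.Injective.of_comp_right (g := AlgebraTensorModule.cancelBaseChange A R R N P) ?_
    (LinearEquiv.surjective _)
  rw [key]
  exact (LinearEquiv.injective _).comp h2

end Residue

variable {A B : Type u} [CommRing A] [CommRing B] [Algebra A B]

/-- A free algebra with integral fibres contracts weakly associated primes. -/
theorem contracts_of_free [Module.Free A B]
    (hdom : ∀ (p : Ideal A) [p.IsPrime], IsDomain (p.ResidueField ⊗[A] B)) : Contracts A B := by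
  classical
  intro M _ _ q hq hqM
  set p := q.comap (algebraMap A B) with hp
  haveI : p.IsPrime := Ideal.IsPrime.comap _
  haveI : IsDomain (p.ResidueField ⊗[A] B) := hdom p
  by_contra hcon
  obtain ⟨-, z, hz1, hz2⟩ := mem_weakAss_iff.1 hqM
  let R := Localization.AtPrime p
  let ι : M →ₗ[A] R ⊗[A] M := TensorProduct.mk A R M 1
  have hL : ∀ m : R ⊗[A] M, (∀ a ∈ p, ∃ n : ℕ, a ^ n • m = 0) → m = 0 := by
    intro m hm
    obtain ⟨⟨x, s⟩, hx⟩ := IsLocalizedModule.surj p.primeCompl ι m
    by_contra hne
    refine hcon (mem_weakAss_of_isWA (m := x) ⟨fun r hr => ?_, fun a ha => ?_⟩)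
    · by_contra hrp
      refine hne (((Module.End.isUnit_iff _).mp (IsLocalizedModule.map_units ι
        (⟨r * s, p.primeCompl.mul_mem hrp s.2⟩ : p.primeCompl))).injective ?_)
      show (r * (s : A)) • m = (r * (s : A)) • (0 : R ⊗[A] M)
      rw [smul_zero, mul_smul, ← Submonoid.smul_def, hx, ← map_smul, hr, map_zero]
    · obtain ⟨n, hn⟩ := hm a ha
      have : ι (a ^ n • x) = 0 := by rw [map_smul, ← hx, smul_comm, hn, smul_zero]
      obtain ⟨c, hc⟩ := (IsLocalizedModule.eq_zero_iff p.primeCompl ι).1 this
      exact ⟨c, c.2, n, by rw [mul_smul]; exact hc⟩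
  let b := Module.Free.chooseBasis A B
  let z' : (R ⊗[A] M) ⊗[A] B := TensorProduct.comm A _ _ (ι.lTensor B z)
  have hkill : ∀ a ∈ p, ∃ n : ℕ, a ^ n • z' = 0 := by
    intro a ha
    obtain ⟨u, hu, n, hn⟩ := hz2 (algebraMap A B a) ha
    refine ⟨n, ?_⟩
    have hinj : Function.Injective ((LinearMap.mulLeft A u).lTensor p.ResidueField) := by
      have hne : (1 : p.ResidueField) ⊗ₜ[A] u ≠ 0 := fun h0 => by
        obtain ⟨c, hc⟩ : ∃ c : A, c ∉ p ∧ algebraMap A B c * u ∈ p.map (algebraMap A B) := by
          letI : Algebra B (p.Fiber B) := Algebra.TensorProduct.rightAlgebra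
          let L := Localization (Algebra.algebraMapSubmonoid B p.primeCompl)
          let I : Ideal L := (p.map (algebraMap A B)).map (algebraMap B L)
          let e : p.Fiber B ≃ₐ[B] L ⧸ I := Ideal.Fiber.algEquivAux₁ p
          have h1 : Ideal.Quotient.mk I (algebraMap B L u) = 0 := by
            have h2 := congrArg e h0
            rw [map_zero] at h2
            exact (e.commutes u).symm.trans h2
          rw [Ideal.Quotient.eq_zero_iff_mem,
            IsLocalization.algebraMap_mem_map_algebraMap_iff (Algebra.algebraMapSubmonoid B p.primeCompl)] at h1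
          obtain ⟨_, ⟨c, hc, rfl⟩, h⟩ := h1
          exact ⟨c, hc, h⟩
        exact (hq.mem_or_mem ((Ideal.map_le_iff_le_comap.2 le_rfl) hc.2)).elim hc.1 hu
      have e : ∀ x, (LinearMap.mulLeft A u).lTensor p.ResidueField x = ((1 : p.ResidueField) ⊗ₜ[A] u) * x := by
        intro x
        induction x using TensorProduct.induction_on with
        | zero => simp
        | tmul r y => rw [LinearMap.lTensor_tmul, LinearMap.mulLeft_apply, Algebra.TensorProduct.tmul_mul_tmul, one_mul]
        | add x y hx hy => rw [map_add, hx, hy, mul_add]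
      intro x y hxy
      rw [e, e] at hxy
      exact mul_left_cancel₀ hne hxy
    apply lTensor_injective_of_residueField p (LinearMap.mulLeft A u) hinj (R ⊗[A] M)
    rw [map_zero]
    have hnat : ∀ w : B ⊗[A] M, (LinearMap.mulLeft A u).lTensor (R ⊗[A] M)
        (TensorProduct.comm A _ _ (ι.lTensor B w)) = TensorProduct.comm A _ _ (ι.lTensor B (u • w)) := by
      intro w
      induction w using TensorProduct.induction_on with
      | zero => simp
      | tmul x m => simp [TensorProduct.smul_tmul']
      | add x y hx hy => simp only [map_add, smul_add, hx, hy]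
    rw [map_smul, hnat, ← map_smul, ← map_smul, ← algebraMap_smul B, smul_smul, map_pow,
      mul_comm, hn, map_zero, map_zero]
  let e := TensorProduct.equivFinsuppOfBasisRight (M := R ⊗[A] M) b
  have hz' : e z' = 0 := by
    refine Finsupp.ext fun i => ?_
    refine hL _ fun a ha => ?_
    obtain ⟨n, hn⟩ := hkill a ha
    refine ⟨n, ?_⟩
    have := congrArg (fun c => e c i) hn
    simpa using this
  let e₀ := TensorProduct.equivFinsuppOfBasisRight (M := M) b
  have hcoord : ∀ i, ι (e₀ (TensorProduct.comm A _ _ z) i) = 0 := by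
    intro i
    have hn : ∀ w : B ⊗[A] M, e (TensorProduct.comm A _ _ (ι.lTensor B w)) i =
        ι (e₀ (TensorProduct.comm A _ _ w) i) := by
      intro w
      induction w using TensorProduct.induction_on with
      | zero => simp
      | tmul x m => simp [e, e₀, map_smul]
      | add x y hx hy => simp only [map_add, Finsupp.add_apply, hx, hy]
    rw [← hn]
    exact congrArg (fun c => c i) hz'
  choose s hs using fun i => (IsLocalizedModule.eq_zero_iff p.primeCompl ι).1 (hcoord i)
  let c := ∏ i ∈ (e₀ (TensorProduct.comm A _ _ z)).support, (s i : A)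
  have hc : c ∉ p := fun h => by
    obtain ⟨i, -, hi⟩ := Ideal.IsPrime.prod_mem_iff.1 h
    exact (s i).2 hi
  refine hc (hz1 (algebraMap A B c) ?_)
  rw [algebraMap_smul]
  apply (TensorProduct.comm A B M).injective
  apply e₀.injective
  rw [map_smul, map_smul, map_zero, map_zero]
  ext i
  rw [Finsupp.smul_apply, Finsupp.zero_apply]
  by_cases hi : i ∈ (e₀ (TensorProduct.comm A _ _ z)).support
  · obtain ⟨d, hd⟩ := Finset.dvd_prod_of_mem (fun i => (s i : A)) hi
    rw [show c = (s i : A) * d from hd, mul_comm, mul_smul, ← Submonoid.smul_def, hs i, smul_zero]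
  · rw [Finsupp.notMem_support_iff.1 hi, smul_zero]

variable (C : Type u) [CommRing C] [Algebra A C] [Algebra B C] [IsScalarTower A B C]

omit [Algebra A B] in
theorem weakAss_congr {N N' : Type u} [AddCommGroup N] [Module C N] [AddCommGroup N'] [Module C N']
    (e : N ≃ₗ[C] N') : FlatCA.weakAss C N = FlatCA.weakAss C N' :=
  Set.Subset.antisymm (weakAss_subset_of_injective e.toLinearMap e.injective)
    (weakAss_subset_of_injective e.symm.toLinearMap e.symm.injective)

theorem Contracts.trans (h₁ : Contracts A B) (h₂ : Contracts B C) : Contracts A C := by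
  intro M _ _ q hq hqM
  rw [← weakAss_congr C (AlgebraTensorModule.cancelBaseChange A B C C M)] at hqM
  have := h₁ M (q.comap (algebraMap B C)) (Ideal.IsPrime.comap _) (h₂ _ q hq hqM)
  rwa [Ideal.comap_comap, ← IsScalarTower.algebraMap_eq] at this

theorem contracts_of_isLocalization (T : Submonoid A) [IsLocalization T B] : Contracts A B := by
  intro M _ _ q hq hqM
  have h := (Groth.ModEtQCoh.WeakAssFinite.mem_weakAss_tensor_iff_of_isLocalization (A := A) (B := A) B T q).1 hqM
  rwa [weakAss_congr A (TensorProduct.lid A M)] at h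

theorem contracts_of_finite_flat [Module.Finite A B] [Module.Flat A B] : Contracts A B := by
  intro M _ _ q hq hqM
  haveI : q.LiesOver (q.comap (algebraMap A B)) := ⟨rfl⟩
  haveI : (q.comap (algebraMap A B)).IsPrime := Ideal.IsPrime.comap _
  exact Groth.ModEtQCoh.WeakAssFinite.mem_weakAss_of_tensor hqM

/-- The annihilator of `1 ⊗ w` along a flat algebra. -/
theorem ann_one_tmul {N : Type u} [AddCommGroup N] [Module B N] [Module.Flat B C] (w : N) :
    (span C {(1 : C) ⊗ₜ[B] w}).annihilator = ((span B {w}).annihilator).map (algebraMap B C) := by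
  set I := (span B {w}).annihilator
  refine le_antisymm (fun c hc => ?_) (Ideal.map_le_iff_le_comap.2 fun a ha => mem_ann.2 ?_)
  · let g : (B ⧸ I) →ₗ[B] N := Submodule.liftQ I (LinearMap.toSpanSingleton B N w)
      fun a ha => mem_ann.1 ha
    have hg : Function.Injective g := by
      rw [← LinearMap.ker_eq_bot]
      refine Submodule.ker_liftQ_eq_bot _ _ _ fun a ha => mem_ann.2 ?_
      simpa using ha
    have h1 : c ⊗ₜ[B] (Submodule.Quotient.mk (1 : B) : B ⧸ I) = 0 := by
      apply Module.Flat.lTensor_preserves_injective_linearMap (M := C) g hg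
      rw [map_zero, LinearMap.lTensor_tmul]
      show c ⊗ₜ[B] ((1 : B) • w) = 0
      rw [one_smul, show c ⊗ₜ[B] w = c • ((1 : C) ⊗ₜ[B] w) by rw [smul_tmul', smul_eq_mul, mul_one]]
      exact mem_ann.1 hc
    have h2 := congrArg (TensorProduct.tensorQuotEquivQuotSMul C I) h1
    rw [map_zero] at h2
    erw [TensorProduct.tensorQuotEquivQuotSMul_tmul_mk] at h2
    rw [one_smul, Submodule.Quotient.mk_eq_zero, Ideal.smul_top_eq_map] at h2
    exact h2
  · rw [algebraMap_smul, ← TensorProduct.tmul_smul, mem_ann.1 ha, TensorProduct.tmul_zero]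

/-- Weak association descends to a level over which the module is flat. -/
theorem mem_weakAss_of_one_tmul [Module.Flat B C] {N : Type u} [AddCommGroup N] [Module B N] (w : N)
    {q : Ideal C} (hq : q ∈ (span C {(1 : C) ⊗ₜ[B] w}).annihilator.minimalPrimes) :
    q.comap (algebraMap B C) ∈ FlatCA.weakAss B N := by
  rw [ann_one_tmul] at hq
  haveI := hq.1.1
  refine ⟨w, ⟨Ideal.IsPrime.comap _, Ideal.map_le_iff_le_comap.1 hq.1.2⟩, fun P hP hPq => ?_⟩
  haveI := hP.1
  haveI : q.LiesOver (q.comap (algebraMap B C)) := ⟨rfl⟩
  obtain ⟨Q, hQq, hQ, hQP⟩ := Ideal.exists_ideal_le_liesOver_of_le (p := P) (q := q.comap (algebraMap B C))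
    (S := C) q hPq
  have : q ≤ Q := hq.2 ⟨hQ, Ideal.map_le_iff_le_comap.2 (hP.2.trans (le_of_eq hQP.over))⟩ hQq
  exact (Ideal.comap_mono this).trans (le_of_eq hQP.over.symm)

end Groth.WeakAssField
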