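import Groth.Agent.WeakAssField.Field
import Groth.Agent.VarietyBC.BC
import Groth.Agent.Divisors.Assoc
import Groth.Agent.QCohMod.PullbackSections
import Groth.Agent.QCohMod.PullbackQCoh

/-!
# Weakly associated points after a field extension
-/

set_option autoImplicit false
set_option linter.style.haveILetI false
universe u

open CategoryTheory CategoryTheory.Limits AlgebraicGeometry TensorProduct Groth.QCohMod

namespace Groth.WeakAssField

theorem Contracts.of_equiv {A B C : Type u} [CommRing A] [CommRing B] [CommRing C] [Algebra A B]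
    [Algebra A C] (h : Contracts A B) (e : B ≃ₐ[A] C) : Contracts A C := by
  letI : Algebra B C := e.toRingEquiv.toRingHom.toAlgebra
  haveI : IsScalarTower A B C := IsScalarTower.of_algebraMap_eq fun a => (e.commutes a).symm
  let l : B ≃ₗ[B] C := LinearEquiv.ofBijective (Algebra.linearMap B C) e.bijective
  haveI : Module.Finite B C := Module.Finite.equiv l
  haveI : Module.Flat B C := Module.Flat.of_linearEquiv l.symm
  exact h.trans _ contracts_of_finite_flat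

theorem isWeakAssPoint_of_bc (k : Type u) [Field k] (K : Type u) [Field K] [Algebra k K] (X : Scheme.{u})
    [X.Over (Spec (CommRingCat.of k))] (F : X.Modules) [F.IsQuasicoherent] (y : Curv2.bc k X K)
    (hy : Curv2.IsWeakAssPoint ((Scheme.Modules.pullback (Curv2.bcFst k X K)).obj F) y) :
    Curv2.IsWeakAssPoint F (Curv2.bcFst k X K y) := by
  let p := Curv2.bcFst k X K
  obtain ⟨⟨U, hU'⟩, hxU, -⟩ := Groth.Divisors.exists_affine_le (p y) ⊤ trivial
  have hU : IsAffineOpen U := hU'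
  letI : Algebra k Γ(X, U) := (VarietyBC.openMap hU).toAlgebra
  have hm : VarietyBC.OverSpec (k := k) Γ(X, U) hU.fromSpec := ⟨VarietyBC.fromSpec_str hU⟩
  let g : Spec (CommRingCat.of (Γ(X, U) ⊗[k] K)) ⟶ Curv2.bc k X K := VarietyBC.tensorTo K hm
  haveI : IsOpenImmersion g := VarietyBC.isOpenImmersion_tensorTo K hm
  have hWeq : g.opensRange = p ⁻¹ᵁ U := by
    ext1
    refine (VarietyBC.range_tensorTo K hm).trans ?_
    show p ⁻¹' Set.range hU.fromSpec = p ⁻¹' U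
    rw [hU.range_fromSpec]
  have hW : IsAffineOpen (p ⁻¹ᵁ U) := hWeq ▸ isAffineOpen_opensRange g
  letI : Algebra Γ(X, U) Γ(Curv2.bc k X K, p ⁻¹ᵁ U) := sectionsAlg p (le_refl (p ⁻¹ᵁ U))
  have hgW : ⊤ ≤ g ⁻¹ᵁ (p ⁻¹ᵁ U) := fun z _ => hWeq.le ⟨z, rfl⟩
  let φ := g.appLE (p ⁻¹ᵁ U) ⊤ hgW ≫ (Scheme.ΓSpecIso (CommRingCat.of (Γ(X, U) ⊗[k] K))).hom
  haveI : IsIso (g.appLE (p ⁻¹ᵁ U) ⊤ hgW) := by
    have : IsIso (g.appLE (p ⁻¹ᵁ U) ⊤ hgW ≫ (g.appIso ⊤).inv) := by
      rw [Scheme.Hom.appLE_appIso_inv]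
      have he : g ''ᵁ ⊤ = p ⁻¹ᵁ U := (g.image_top_eq_opensRange).trans hWeq
      have : IsIso (homOfLE he.le : g ''ᵁ ⊤ ⟶ p ⁻¹ᵁ U) :=
        ⟨homOfLE he.ge, Subsingleton.elim _ _, Subsingleton.elim _ _⟩
      exact inferInstanceAs (IsIso ((Curv2.bc k X K).presheaf.map (homOfLE he.le).op))
    exact IsIso.of_isIso_comp_right _ (g.appIso ⊤).inv
  haveI : IsIso φ := inferInstance
  have hcomm : p.appLE U (p ⁻¹ᵁ U) le_rfl ≫ φ = CommRingCat.ofHom Algebra.TensorProduct.includeLeftRingHom := by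
    let i : CommRingCat.of Γ(X, U) ⟶ CommRingCat.of (Γ(X, U) ⊗[k] K) :=
      CommRingCat.ofHom Algebra.TensorProduct.includeLeftRingHom
    show p.appLE U (p ⁻¹ᵁ U) le_rfl ≫ g.appLE (p ⁻¹ᵁ U) ⊤ hgW ≫ _ = i
    rw [← Category.assoc, Scheme.Hom.appLE_comp_appLE, ← Iso.eq_comp_inv]
    have hfac : g ≫ p = Spec.map i ≫ hU.fromSpec := VarietyBC.tensorTo_fst K hm
    simp only [hfac]
    rw [← Scheme.Hom.appLE_comp_appLE (Spec.map i) hU.fromSpec U ⊤ ⊤
      (by rw [hU.fromSpec_preimage_self]) le_top,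
      show (Spec.map i).appLE ⊤ ⊤ le_top = (Spec.map i).appTop from ((Spec.map i).app_eq_appLE).symm]
    have e1 : hU.fromSpec.appLE U ⊤ (by rw [hU.fromSpec_preimage_self]) = (Scheme.ΓSpecIso Γ(X, U)).inv := by
      rw [Scheme.Hom.appLE, hU.fromSpec_app_self, Category.assoc, ← Functor.map_comp]
      exact (congrArg ((Scheme.ΓSpecIso Γ(X, U)).inv ≫ ·) ((Spec Γ(X, U)).presheaf.map_id _)).trans
        (Category.comp_id _)
    rw [e1]
    exact (Scheme.ΓSpecIso_inv_naturality i).symm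
  let e : Γ(Curv2.bc k X K, p ⁻¹ᵁ U) ≃ₐ[Γ(X, U)] Γ(X, U) ⊗[k] K :=
    { (asIso φ).commRingCatIsoToRingEquiv with
      commutes' := fun a => congr(($hcomm) a) }
  have hcon : Contracts Γ(X, U) Γ(Curv2.bc k X K, p ⁻¹ᵁ U) := (contracts_field Γ(X, U) K).of_equiv e.symm
  haveI : ((Scheme.Modules.pullback p).obj F).IsQuasicoherent := isQCoh_pullback_obj p F
  rw [Groth.Divisors.isWeakAssPoint_iff_weakAss inferInstance hU hxU]
  rw [Groth.Divisors.isWeakAssPoint_iff_weakAss inferInstance hW (hxU : y ∈ p ⁻¹ᵁ U)] at hy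
  let Φ := LinearEquiv.ofBijective (pullSecTensor p F (le_refl (p ⁻¹ᵁ U)))
    (pullSecTensor_bijective p F (le_refl (p ⁻¹ᵁ U)) hU hW)
  rw [← weakAss_congr Γ(Curv2.bc k X K, p ⁻¹ᵁ U) Φ] at hy
  have h := hcon Γ(F, U) _ inferInstance hy
  have hpr := congrArg PrimeSpectrum.asIdeal
    (IsAffineOpen.comap_primeIdealOf_appLE U hU (p ⁻¹ᵁ U) hW le_rfl (hxU : y ∈ p ⁻¹ᵁ U))
  rw [show algebraMap Γ(X, U) Γ(Curv2.bc k X K, p ⁻¹ᵁ U) = (p.appLE U (p ⁻¹ᵁ U) le_rfl).hom from rfl] at h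
  exact hpr ▸ h

end Groth.WeakAssField
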