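import Groth.Agent.WeakAssField.Basic

/-!
# Weakly associated primes after a field extension
-/

set_option autoImplicit false
set_option linter.style.haveILetI false
universe u

open TensorProduct

namespace Groth.WeakAssField

variable {k : Type u} [Field k] (A : Type u) [CommRing A] [Algebra k A]

theorem contracts_polynomial (ι : Type u) : Contracts A (A ⊗[k] MvPolynomial ι k) :=
  contracts_of_free fun p _ =>
    ((Algebra.TensorProduct.cancelBaseChange k A p.ResidueField p.ResidueField (MvPolynomial ι k)).trans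
      (MvPolynomial.algebraTensorAlgEquiv k p.ResidueField)).toRingEquiv.toMulEquiv.isDomain _

/-- Base change of a pushout square along `k → A`. -/
theorem isPushout_tensor (F E : Type u) [CommRing F] [CommRing E] [Algebra k F] [Algebra k E] [Algebra F E]
    [IsScalarTower k F E] :
    letI := (Algebra.TensorProduct.map (AlgHom.id k A) (IsScalarTower.toAlgHom k F E)).toRingHom.toAlgebra
    letI := Algebra.TensorProduct.rightAlgebra (R := k) (A := A) (B := F)
    Nonempty ((A ⊗[k] F) ⊗[F] E ≃ₗ[A ⊗[k] F] A ⊗[k] E) := by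
  letI : Algebra (A ⊗[k] F) (A ⊗[k] E) :=
    (Algebra.TensorProduct.map (AlgHom.id k A) (IsScalarTower.toAlgHom k F E)).toRingHom.toAlgebra
  letI := Algebra.TensorProduct.rightAlgebra (R := k) (A := A) (B := F)
  letI : Algebra F (A ⊗[k] E) := ((Algebra.TensorProduct.includeRight.toRingHom).comp (algebraMap F E)).toAlgebra
  letI := Algebra.TensorProduct.rightAlgebra (R := k) (A := A) (B := E)
  haveI : IsScalarTower F (A ⊗[k] F) (A ⊗[k] E) := IsScalarTower.of_algebraMap_eq fun x => by
    show (1 : A) ⊗ₜ[k] algebraMap F E x = (Algebra.TensorProduct.map (AlgHom.id k A) _) ((1 : A) ⊗ₜ[k] x)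
    rw [Algebra.TensorProduct.map_tmul]; rfl
  haveI : IsScalarTower F E (A ⊗[k] E) := IsScalarTower.of_algebraMap_eq' rfl
  haveI : IsScalarTower A (A ⊗[k] F) (A ⊗[k] E) := IsScalarTower.of_algebraMap_eq fun a => by
    show a ⊗ₜ[k] (1 : E) = (Algebra.TensorProduct.map (AlgHom.id k A) _) (a ⊗ₜ[k] (1 : F))
    rw [Algebra.TensorProduct.map_tmul, map_one]; rfl
  haveI : IsScalarTower k F (A ⊗[k] E) := IsScalarTower.of_algebraMap_eq fun c => by
    show algebraMap k A c ⊗ₜ[k] (1 : E) = (1 : A) ⊗ₜ[k] algebraMap F E (algebraMap k F c)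
    rw [← IsScalarTower.algebraMap_apply, Algebra.algebraMap_eq_smul_one, Algebra.algebraMap_eq_smul_one,
      TensorProduct.smul_tmul]
  haveI : Algebra.IsPushout F (A ⊗[k] F) E (A ⊗[k] E) := by
    rw [Algebra.IsPushout.comm, ← Algebra.IsPushout.comp_iff k _ A]
    infer_instance
  exact ⟨(Algebra.IsPushout.out (R := F) (S := A ⊗[k] F) (R' := E) (S' := A ⊗[k] E)).equiv⟩

theorem tensor_map_flat (F E : Type u) [CommRing F] [CommRing E] [Algebra k F] [Algebra k E] [Algebra F E]
    [IsScalarTower k F E] [Module.Flat F E] :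
    letI := (Algebra.TensorProduct.map (AlgHom.id k A) (IsScalarTower.toAlgHom k F E)).toRingHom.toAlgebra
    Module.Flat (A ⊗[k] F) (A ⊗[k] E) := by
  letI : Algebra (A ⊗[k] F) (A ⊗[k] E) :=
    (Algebra.TensorProduct.map (AlgHom.id k A) (IsScalarTower.toAlgHom k F E)).toRingHom.toAlgebra
  letI := Algebra.TensorProduct.rightAlgebra (R := k) (A := A) (B := F)
  obtain ⟨e⟩ := isPushout_tensor A F E (k := k)
  exact Module.Flat.of_linearEquiv e.symm

theorem tensor_map_finite (F E : Type u) [CommRing F] [CommRing E] [Algebra k F] [Algebra k E] [Algebra F E]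
    [IsScalarTower k F E] [Module.Finite F E] :
    letI := (Algebra.TensorProduct.map (AlgHom.id k A) (IsScalarTower.toAlgHom k F E)).toRingHom.toAlgebra
    Module.Finite (A ⊗[k] F) (A ⊗[k] E) := by
  letI : Algebra (A ⊗[k] F) (A ⊗[k] E) :=
    (Algebra.TensorProduct.map (AlgHom.id k A) (IsScalarTower.toAlgHom k F E)).toRingHom.toAlgebra
  letI := Algebra.TensorProduct.rightAlgebra (R := k) (A := A) (B := F)
  obtain ⟨e⟩ := isPushout_tensor A F E (k := k)
  exact Module.Finite.equiv e

theorem contracts_pure (ι : Type u) (F : Type u) [Field F] [Algebra k F] [Algebra (MvPolynomial ι k) F]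
    [IsScalarTower k (MvPolynomial ι k) F] [IsFractionRing (MvPolynomial ι k) F] :
    Contracts A (A ⊗[k] F) := by
  let P := MvPolynomial ι k
  letI : Algebra (A ⊗[k] P) (A ⊗[k] F) :=
    (Algebra.TensorProduct.map (AlgHom.id A A) (IsScalarTower.toAlgHom k P F)).toRingHom.toAlgebra
  haveI : IsScalarTower A (A ⊗[k] P) (A ⊗[k] F) := IsScalarTower.of_algebraMap_eq fun a => by
    show a ⊗ₜ[k] (1 : F) = (Algebra.TensorProduct.map (AlgHom.id A A) _) (a ⊗ₜ[k] (1 : P))
    rw [Algebra.TensorProduct.map_tmul, map_one]; rfl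
  haveI := IsLocalization.tensorProduct_tensorProduct_right k A (nonZeroDivisors P) F (by
    refine RingHom.ext fun x => ?_
    show (Algebra.TensorProduct.map (AlgHom.id A A) (IsScalarTower.toAlgHom k P F)) ((1 : A) ⊗ₜ[k] x) = _
    rw [Algebra.TensorProduct.map_tmul]; rfl)
  exact (contracts_polynomial A ι).trans _
    (contracts_of_isLocalization ((nonZeroDivisors P).map (Algebra.TensorProduct.includeRight (R := k) (A := A))))

theorem contracts_finite (F E : Type u) [Field F] [Field E] [Algebra k F] [Algebra k E] [Algebra F E]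
    [IsScalarTower k F E] [Module.Finite F E] (hF : Contracts A (A ⊗[k] F)) : Contracts A (A ⊗[k] E) := by
  letI : Algebra (A ⊗[k] F) (A ⊗[k] E) :=
    (Algebra.TensorProduct.map (AlgHom.id k A) (IsScalarTower.toAlgHom k F E)).toRingHom.toAlgebra
  haveI : IsScalarTower A (A ⊗[k] F) (A ⊗[k] E) := IsScalarTower.of_algebraMap_eq fun a => by
    show a ⊗ₜ[k] (1 : E) = (Algebra.TensorProduct.map (AlgHom.id k A) _) (a ⊗ₜ[k] (1 : F))
    rw [Algebra.TensorProduct.map_tmul, map_one]; rfl
  haveI := tensor_map_flat A F E (k := k)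
  haveI := tensor_map_finite A F E (k := k)
  exact hF.trans _ contracts_of_finite_flat

/-- Weakly associated primes contract along a field extension. -/
theorem contracts_field (K : Type u) [Field K] [Algebra k K] : Contracts A (A ⊗[k] K) := by
  classical
  obtain ⟨s, hs⟩ := exists_isTranscendenceBasis k K
  let ι : Type u := ↥s
  let x : ι → K := (↑)
  have hx : IsTranscendenceBasis k x := hs
  let F := IntermediateField.adjoin k (Set.range x)
  haveI : Algebra.IsAlgebraic F K := hx.isAlgebraic_field
  let eF := hx.1.aevalEquivField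
  letI : Algebra (MvPolynomial ι k) F :=
    (eF.toRingEquiv.toRingHom.comp (algebraMap (MvPolynomial ι k) (FractionRing (MvPolynomial ι k)))).toAlgebra
  haveI : IsScalarTower k (MvPolynomial ι k) F := IsScalarTower.of_algebraMap_eq fun c => by
    show algebraMap k F c = eF (algebraMap _ _ (algebraMap k (MvPolynomial ι k) c))
    rw [← IsScalarTower.algebraMap_apply, eF.commutes]
  haveI : IsFractionRing (MvPolynomial ι k) F :=
    IsLocalization.isLocalization_of_algEquiv (nonZeroDivisors (MvPolynomial ι k))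
      ({ eF.toRingEquiv with commutes' := fun _ => rfl } :
        FractionRing (MvPolynomial ι k) ≃ₐ[MvPolynomial ι k] F)
  have hF : Contracts A (A ⊗[k] F) := contracts_pure A ι F
  intro M _ _ q hq hqM
  obtain ⟨z, hz⟩ := hqM
  -- the element lives over a finite extension of `F`
  let T := fun (E : IntermediateField F K) => AlgebraTensorModule.rTensor A M
    ((Algebra.TensorProduct.map (AlgHom.id A A) (E.val.restrictScalars k)).toLinearMap :
      A ⊗[k] E →ₗ[A] A ⊗[k] K)
  have hsupp : ∀ w : (A ⊗[k] K) ⊗[A] M, ∃ S : Finset K, ∀ E : IntermediateField F K,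
      (∀ c ∈ S, c ∈ E) → w ∈ LinearMap.range (T E) := by
    intro w
    induction w using TensorProduct.induction_on with
    | zero => exact ⟨∅, fun E _ => zero_mem _⟩
    | add w w' hw hw' =>
      obtain ⟨S, hS⟩ := hw
      obtain ⟨S', hS'⟩ := hw'
      exact ⟨S ∪ S', fun E hE => add_mem (hS E fun c hc => hE c (Finset.mem_union_left _ hc))
        (hS' E fun c hc => hE c (Finset.mem_union_right _ hc))⟩
    | tmul v m =>
      induction v using TensorProduct.induction_on with
      | zero => exact ⟨∅, fun E _ => by rw [TensorProduct.zero_tmul]; exact zero_mem _⟩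
      | add v v' hv hv' =>
        obtain ⟨S, hS⟩ := hv
        obtain ⟨S', hS'⟩ := hv'
        exact ⟨S ∪ S', fun E hE => by
          rw [TensorProduct.add_tmul]
          exact add_mem (hS E fun c hc => hE c (Finset.mem_union_left _ hc))
            (hS' E fun c hc => hE c (Finset.mem_union_right _ hc))⟩
      | tmul a c => exact ⟨{c}, fun E hE => ⟨(a ⊗ₜ[k] (⟨c, hE c (Finset.mem_singleton_self c)⟩ : E)) ⊗ₜ m, rfl⟩⟩
  obtain ⟨S, hS⟩ := hsupp z
  let E := IntermediateField.adjoin F (S : Set K)
  haveI : Module.Finite F E := IntermediateField.finiteDimensional_adjoin fun c _ =>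
    (Algebra.IsAlgebraic.isAlgebraic c).isIntegral
  obtain ⟨w, hw⟩ := hS E fun c hc => IntermediateField.subset_adjoin F _ hc
  have hE : Contracts A (A ⊗[k] E) := contracts_finite A F E hF
  haveI : IsScalarTower k E K := IsScalarTower.of_algebraMap_eq fun c => rfl
  letI : Algebra (A ⊗[k] E) (A ⊗[k] K) :=
    (Algebra.TensorProduct.map (AlgHom.id k A) (IsScalarTower.toAlgHom k E K)).toRingHom.toAlgebra
  haveI : IsScalarTower A (A ⊗[k] E) (A ⊗[k] K) := IsScalarTower.of_algebraMap_eq fun a => by
    show a ⊗ₜ[k] (1 : K) = (Algebra.TensorProduct.map (AlgHom.id k A) _) (a ⊗ₜ[k] (1 : E))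
    rw [Algebra.TensorProduct.map_tmul, map_one]; rfl
  haveI := tensor_map_flat A E K (k := k)
  let e := AlgebraTensorModule.cancelBaseChange A (A ⊗[k] E) (A ⊗[k] K) (A ⊗[k] K) M
  have hez : e ((1 : A ⊗[k] K) ⊗ₜ[A ⊗[k] E] w) = z := by
    rw [← hw]
    clear hw
    induction w using TensorProduct.induction_on with
    | zero => simp
    | tmul v m =>
      simp only [e, AlgebraTensorModule.cancelBaseChange_tmul]
      rw [Algebra.smul_def, mul_one]
      rfl
    | add v v' hv hv' => rw [TensorProduct.tmul_add, map_add, map_add, hv, hv']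
  have hann : (Submodule.span (A ⊗[k] K) {(1 : A ⊗[k] K) ⊗ₜ[A ⊗[k] E] w}).annihilator =
      (Submodule.span (A ⊗[k] K) {z}).annihilator := by
    ext r
    rw [Groth.Calg5.mem_ann, Groth.Calg5.mem_ann, ← hez, ← map_smul, LinearEquiv.map_eq_zero_iff]
  rw [← hann] at hz
  haveI := hq
  have h2 := hE M _ (Ideal.IsPrime.comap _) (mem_weakAss_of_one_tmul (B := A ⊗[k] E) (C := A ⊗[k] K) w hz)
  rwa [Ideal.comap_comap, ← IsScalarTower.algebraMap_eq] at h2

end Groth.WeakAssField
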